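import Mathlib
import Cfsg.Agent.Eq.Def_Characters
import Cfsg.Agent.Eq.Def_Blocks
import Cfsg.Agent.Eq.Def_Solvable
import Cfsg.Agent.Chars.Basic
import Cfsg.Agent.Chars.Induced.Clifford
import Cfsg.Agent.Chars.Apps.ThompsonComplement
import Cfsg.Agent.LocalP.Basic
import Cfsg.Agent.S0191
import Cfsg.Agent.S4558

/-!
# Groups all of whose vanishing elements are `p`-elements

* `exists_zero_of_notMem_center`: in a nilpotent group the non-vanishing elements are central;
* `mem_inertia_of_forall_ne_zero`;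
* `commute_of_forall_fixed`.
-/

set_option autoImplicit false

namespace CfsgLib.VanishPPower

open Cfsg CfsgLib.Chars CfsgLib.Chars.Induced

universe u

/-- A finite group is not the union of the conjugates of a proper subgroup. -/
theorem eq_top_of_conj_cover {G : Type u} [Group G] [Fintype G] (T : Subgroup G) (h : ∀ g : G, ∃ x : G, x⁻¹ * g * x ∈ T) :
    T = ⊤ := by
  classical
  have : Fintype (G ⧸ T) := Fintype.ofFinite _
  have : Fintype (Quotient (MulAction.orbitRel G (G ⧸ T))) := Fintype.ofFinite _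
  have hfix : ∀ a : G, 1 ≤ Fintype.card (MulAction.fixedBy (G ⧸ T) a) := by
    intro a
    obtain ⟨x, hx⟩ := h a
    refine Fintype.card_pos_iff.2 ⟨⟨(x : G ⧸ T), ?_⟩⟩
    rw [MulAction.mem_fixedBy]
    show ((a * x : G) : G ⧸ T) = (x : G ⧸ T)
    rw [QuotientGroup.eq]
    simpa [mul_assoc] using T.inv_mem hx
  have h1 := MulAction.sum_card_fixedBy_eq_card_orbits_mul_card_group G (G ⧸ T)
  have horb : Fintype.card (Quotient (MulAction.orbitRel G (G ⧸ T))) = 1 := by
    refine le_antisymm (Fintype.card_le_one_iff_subsingleton.2 ?_) (Fintype.card_pos)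
    exact (MulAction.pretransitive_iff_subsingleton_quotient G (G ⧸ T)).1 inferInstance
  rw [horb, one_mul, ← Finset.add_sum_erase _ _ (Finset.mem_univ (1 : G))] at h1
  have h2 : (Finset.univ.erase (1 : G)).card ≤
      ∑ a ∈ Finset.univ.erase (1 : G), Fintype.card (MulAction.fixedBy (G ⧸ T) a) := by
    rw [Finset.card_eq_sum_ones]
    exact Finset.sum_le_sum fun a _ => hfix a
  rw [Finset.card_erase_of_mem (Finset.mem_univ _), Finset.card_univ] at h2
  have h3 : Fintype.card (MulAction.fixedBy (G ⧸ T) (1 : G)) = T.index := by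
    rw [Subgroup.index_eq_card, ← Nat.card_eq_fintype_card]
    exact Nat.card_congr ((Equiv.setCongr (MulAction.fixedBy_one_eq_univ (G ⧸ T) G)).trans
      (Equiv.Set.univ _))
  rw [h3] at h1
  have h4 := T.index_ne_zero_of_finite
  have h5 := Fintype.card_pos (α := G)
  exact Subgroup.index_eq_one.1 (by omega)

/-- In a finite nilpotent group some irreducible character vanishes at each noncentral element. -/
theorem exists_zero_of_notMem_center {P : Type*} [Group P] [Group.IsNilpotent P] :
    Finite P → ∀ x : P, x ∉ Subgroup.center P → ∃ χ : IrrCharacter P, (χ : P → ℂ) x = 0 := by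
  apply Group.nilpotent_center_quotient_ind (P := fun Q _ _ =>
    Finite Q → ∀ x : Q, x ∉ Subgroup.center Q → ∃ χ : IrrCharacter Q, (χ : Q → ℂ) x = 0) P
  · intro Q _ _ _ x hx
    exact absurd (Subsingleton.elim x 1 ▸ one_mem _) hx
  · intro Q _ _ ih hfin x hx
    by_cases hz : (x : Q ⧸ Subgroup.center Q) ∈ Subgroup.center (Q ⧸ Subgroup.center Q)
    · rw [Subgroup.mem_center_iff] at hx
      push Not at hx
      obtain ⟨g, hg⟩ := hx
      set c := g * x * g⁻¹ * x⁻¹ with hc
      have hc1 : c ≠ 1 := fun h => hg (by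
        rwa [hc, mul_inv_eq_one, mul_inv_eq_iff_eq_mul] at h)
      have hcZ : c ∈ Subgroup.center Q := by
        have h1 := Subgroup.mem_center_iff.1 hz (g : Q ⧸ Subgroup.center Q)
        rw [← QuotientGroup.mk_mul, ← QuotientGroup.mk_mul, QuotientGroup.eq] at h1
        have h3 := Subgroup.mem_center_iff.1 (inv_mem h1) (x * g)
        have h2 : c = ((g * x)⁻¹ * (x * g))⁻¹ := by
          have h4 : g * x = (x * g) * ((g * x)⁻¹ * (x * g))⁻¹ := by group
          rw [h3] at h4
          calc c = g * x * (x * g)⁻¹ := by rw [hc]; group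
            _ = ((g * x)⁻¹ * (x * g))⁻¹ * (x * g) * (x * g)⁻¹ := by rw [← h4]
            _ = _ := mul_inv_cancel_right _ _
        rw [h2]
        exact inv_mem h1
      obtain ⟨χ, hχ⟩ : ∃ χ : IrrCharacter Q, (χ : Q → ℂ) c ≠ (χ : Q → ℂ) 1 := by
        by_contra! h
        exact hc1 (eq_one_of_forall_eq h)
      refine ⟨χ, ?_⟩
      have h1 : (χ : Q → ℂ) (c * x) = (χ : Q → ℂ) x := by
        rw [show c * x = g * x * g⁻¹ by rw [hc]; group]
        exact isClassFunction_coe χ x g
      rw [map_mul_of_mem_center χ hcZ] at h1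
      by_contra hne
      exact hχ ((div_eq_one_iff_eq (map_one_ne_zero χ)).1 (mul_eq_right₀ hne |>.1 h1))
    · obtain ⟨χ, hχ⟩ := ih inferInstance _ hz
      exact ⟨inflate _ χ, by rw [inflate_apply]; exact hχ⟩

section

variable {G : Type u} [Group G] [Finite G] {N : Subgroup G} [N.Normal]

/-- An element whose class stays in one coset of `N` and where no character vanishes fixes every
irreducible character of `N`. -/
theorem mem_inertia_of_forall_ne_zero {y c : G} (hc : c ∈ N)
    (hcent : ∀ x : G, x⁻¹ * y * x * y⁻¹ ∈ N)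
    (hne : ∀ χ : IrrCharacter G, (χ : G → ℂ) (y * c) ≠ 0) (θ : IrrCharacter N) :
    y ∈ inertia N (θ : N → ℂ) := by
  classical
  have : Fintype G := Fintype.ofFinite G
  have : Fintype N := Fintype.ofFinite N
  by_contra hy
  obtain ⟨χ, hχ⟩ := exists_mult_ne_zero (isCharacter_indFun N (isCharacter_coe θ)) fun h0 => by
    have h1 := congrFun h0 1
    rw [CfsgLib.Chars.Induced.indFun_one_apply, Pi.zero_apply, mul_eq_zero] at h1
    exact h1.elim (Nat.cast_ne_zero.2 N.index_ne_zero_of_finite) (map_one_ne_zero θ)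
  rw [mult_indFun_irr] at hχ
  set T := inertia N (θ : N → ℂ) with hT
  have : Fintype T := Fintype.ofFinite T
  have hNT : N ≤ T := le_inertia (isClassFunction_coe θ)
  obtain ⟨ψ, -, hψ⟩ := exists_indFun_eq (T := T) rfl hNT χ hχ
  refine hne χ ?_
  rw [← hψ]
  refine indFun_eq_zero_of_forall _ fun x hx => hy ?_
  have h1 : x⁻¹ * c * x ∈ N := by simpa using ‹N.Normal›.conj_mem c hc x⁻¹
  have h2 : x⁻¹ * y * x ∈ T := by
    have := T.mul_mem hx (inv_mem (hNT h1))
    convert this using 1
    group
  have h3 := T.mul_mem (inv_mem (hNT (hcent x))) h2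
  convert h3 using 1
  group

/-- A `p`-element fixing all irreducible characters of a normal `p'`-subgroup centralises it. -/
theorem commute_of_forall_fixed {p : ℕ} [Fact p.Prime] (hN : (Nat.card N).Coprime p) {y : G}
    (hy : ∃ k : ℕ, orderOf y = p ^ k)
    (hfix : ∀ θ : IrrCharacter N, y ∈ inertia N (θ : N → ℂ)) : ∀ n ∈ N, n * y = y * n := by
  classical
  have : Fintype N := Fintype.ofFinite N
  have hconj : ∀ n : N, IsConj (⟨y * n * y⁻¹, ‹N.Normal›.conj_mem _ n.2 y⟩ : N) n := fun n =>
    isConj_of_forall_eq fun θ => mem_inertia_iff_forall.1 (hfix θ) n _ rfl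
  obtain ⟨k, hk⟩ := hy
  have hY : IsPGroup p (Subgroup.zpowers y) := IsPGroup.of_card (by rw [Nat.card_zpowers, hk])
  let T : Subgroup N := (Subgroup.centralizer ({y} : Set G)).subgroupOf N
  suffices hT : T = ⊤ by
    intro n hn
    have h : (⟨n, hn⟩ : N) ∈ T := hT ▸ Subgroup.mem_top _
    exact (Subgroup.mem_centralizer_singleton_iff.1 (Subgroup.mem_subgroupOf.1 h))
  refine eq_top_of_conj_cover T fun n => ?_
  let β : MulAut N := MulAut.conjNormal y
  have hbase : ∀ m : N, IsConj n m → IsConj n (β m) := fun m hm =>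
    hm.trans (by
      have h := hconj m
      have e : β m = (⟨y * m * y⁻¹, ‹N.Normal›.conj_mem _ m.2 y⟩ : N) :=
        Subtype.ext (MulAut.conjNormal_apply y m)
      rw [e]
      exact h.symm)
  have hpow : ∀ (j : ℕ) (m : N), IsConj n m → IsConj n ((β ^ j) m) := by
    intro j
    induction j with
    | zero => intro m hm; simpa using hm
    | succ j ih =>
      intro m hm
      rw [pow_succ']
      exact hbase _ (ih m hm)
  let act : MulAction (Subgroup.zpowers y) N :=
    MulAction.compHom N (MulAut.conjNormal.comp (Subgroup.zpowers y).subtype :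
      Subgroup.zpowers y →* MulAut N)
  let O : SubMulAction (Subgroup.zpowers y) N :=
    { carrier := {m | IsConj n m}
      smul_mem' := by
        rintro ⟨g, hg⟩ m hm
        obtain ⟨j, rfl⟩ := mem_powers_iff_mem_zpowers.2 hg
        show IsConj n ((MulAut.conjNormal (y ^ j) : MulAut N) m)
        rw [map_pow]
        exact hpow j m hm }
  have hcard : ¬ p ∣ Nat.card O := by
    intro hd
    have h1 : Nat.card O = Nat.card {m : N // IsConj n m} := rfl
    rw [h1] at hd
    have h2 := dvd_of_mul_right_eq _ (card_isConj_mul_card_centralizer n)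
    exact (Fact.out : p.Prime).coprime_iff_not_dvd.1 (hN.symm) (hd.trans h2)
  obtain ⟨m, hm⟩ := hY.nonempty_fixed_point_of_prime_not_dvd_card O hcard
  obtain ⟨x, hx⟩ := isConj_iff.1 (m.2 : IsConj n m.1)
  refine ⟨x⁻¹, ?_⟩
  rw [inv_inv, hx]
  refine Subgroup.mem_subgroupOf.2 (Subgroup.mem_centralizer_singleton_iff.2 ?_)
  have h3 := congrArg (fun z : O => ((z : N) : G)) (hm ⟨y, Subgroup.mem_zpowers y⟩)
  change ((MulAut.conjNormal y : MulAut N) m.1 : G) = ((m.1 : N) : G) at h3
  rw [MulAut.conjNormal_apply, mul_inv_eq_iff_eq_mul] at h3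
  exact h3.symm

end

end CfsgLib.VanishPPower
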